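import Mathlib.Topology.Spectral.ConstructibleTopology
import Mathlib.Topology.Sober

/-!
# Quotients of spectral spaces by open maps
-/

set_option autoImplicit false

open Topology TopologicalSpace Set

universe u v w

namespace Groth.Agent.H14Top

variable {U : Type u} [TopologicalSpace U] [SpectralSpace U]

lemma isClosed_constructible_of_isOpen_isCompact {V : Set U} (ho : IsOpen V) (hc : IsCompact V) :
    IsClosed[constructibleTopology U] V := by
  refine (@isOpen_compl_iff U V (constructibleTopology U)).1 ?_
  exact IsCompact.isOpen_constructibleTopology_of_isClosed (s := Vᶜ) (by rwa [compl_compl])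
    (isClosed_compl_iff.2 ho)

lemma isClosed_constructible_of_isClosed {W : Set U} (h : IsClosed W) :
    IsClosed[constructibleTopology U] W := by
  refine (@isOpen_compl_iff U W (constructibleTopology U)).1 ?_
  obtain ⟨s, hs, e⟩ := (PrespectralSpace.isTopologicalBasis (X := U)).open_eq_sUnion h.isOpen_compl
  rw [e]
  exact @isOpen_sUnion U (constructibleTopology U) s fun t ht =>
    IsCompact.isOpen_constructibleTopology_of_isOpen (hs ht).2 (hs ht).1

lemma compactSpace_constructible : @CompactSpace U (constructibleTopology U) := by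
  let e : @Homeomorph (WithConstructibleTopology U) U _ (constructibleTopology U) :=
    @Homeomorph.mk (WithConstructibleTopology U) U _ (constructibleTopology U)
      ⟨WithTopology.ofTopology, WithTopology.toTopology _, fun _ => rfl, fun _ => rfl⟩
      (WithTopology.continuous_ofTopology _) (WithTopology.continuous_toTopology _)
  exact @Homeomorph.compactSpace (WithConstructibleTopology U) U _ (constructibleTopology U) _ e

/-- Compact opens with the finite intersection property on a closed set have a common point there. -/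
lemma exists_mem_closed_of_fip {W : Set U} (hW : IsClosed W) {ι : Type w} (V : ι → Set U)
    (ho : ∀ i, IsOpen (V i)) (hc : ∀ i, IsCompact (V i))
    (h : ∀ s : Finset ι, (W ∩ ⋂ i ∈ s, V i).Nonempty) : (W ∩ ⋂ i, V i).Nonempty := by
  have hcpt := compactSpace_constructible (U := U)
  have hW' := isClosed_constructible_of_isClosed hW
  have hV' := fun i => isClosed_constructible_of_isOpen_isCompact (ho i) (hc i)
  exact @IsCompact.inter_iInter_nonempty U (constructibleTopology U) W _
    (@IsClosed.isCompact U (constructibleTopology U) W hcpt hW') V hV' h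

/-- A point of a closed set with no proper generalisation in it. -/
lemma exists_maximal_point {W : Set U} (hW : IsClosed W) {a₀ : U} (ha₀ : a₀ ∈ W) :
    ∃ η ∈ W, ∀ a ∈ W, a ⤳ η → a = η := by
  have := hW.isClosedEmbedding_subtypeVal.quasiSober
  have hC := isIrreducible_irreducibleComponent (x := (⟨a₀, ha₀⟩ : W))
  have hg := hC.isGenericPoint_genericPoint isClosed_irreducibleComponent
  refine ⟨hC.genericPoint.1, hC.genericPoint.2, fun a ha hag => ?_⟩
  let b : W := ⟨a, ha⟩
  have hb : b ⤳ hC.genericPoint := (subtype_specializes_iff b _).2 hag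
  have hsub : irreducibleComponent (⟨a₀, ha₀⟩ : W) ⊆ closure {b} := by
    rw [← hg.def]
    exact hb.closure_subset
  have hmax := (irreducibleComponent_mem_irreducibleComponents (⟨a₀, ha₀⟩ : W)).2
    (isIrreducible_singleton.closure) hsub
  have h2 : hC.genericPoint ⤳ b := hg.specializes (hmax (subset_closure rfl))
  exact (hag.antisymm ((subtype_specializes_iff _ b).1 h2)).eq

variable {X : Type v} [TopologicalSpace X]

/-- An open quotient of a spectral space with compact preimages and proconstructible fibres is spectral. -/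
theorem spectralSpace_of_openQuotient {π : U → X} (hcont : Continuous π) (hop : IsOpenMap π)
    (hsurj : Function.Surjective π)
    (hc : ∀ V : Set X, IsOpen V → IsCompact V → IsCompact (π ⁻¹' V))
    (hfib : ∀ (x : X) {ι : Type u} (V : ι → Set U), (∀ i, IsOpen (V i)) → (∀ i, IsCompact (V i)) →
      (∀ s : Finset ι, ∃ a, π a = x ∧ ∀ i ∈ s, a ∈ V i) → ∃ a, π a = x ∧ ∀ i, a ∈ V i) :
    SpectralSpace X := by
  have hbasis : IsTopologicalBasis { V : Set X | IsOpen V ∧ IsCompact V } := by
    refine isTopologicalBasis_of_isOpen_of_nhds (fun V hV => hV.1) fun x V hx hV => ?_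
    obtain ⟨a, rfl⟩ := hsurj x
    obtain ⟨W, ⟨hWo, hWc⟩, haW, hWV⟩ := (PrespectralSpace.isTopologicalBasis (X := U))
      |>.exists_subset_of_mem_open hx (hV.preimage hcont)
    exact ⟨π '' W, ⟨hop _ hWo, hWc.image hcont⟩, ⟨a, haW, rfl⟩, image_subset_iff.2 hWV⟩
  have : PrespectralSpace X := PrespectralSpace.of_isTopologicalBasis hbasis fun V hV => hV.2
  have : CompactSpace X := hsurj.compactSpace hcont
  have : QuasiSeparatedSpace X := by
    refine ⟨fun V W hVo hVc hWo hWc => ?_⟩
    rw [← image_preimage_eq (V ∩ W) hsurj, preimage_inter]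
    exact (QuasiSeparatedSpace.inter_isCompact _ _ (hVo.preimage hcont) (hc V hVo hVc)
      (hWo.preimage hcont) (hc W hWo hWc)).image hcont
  have : QuasiSober X := by
    refine ⟨fun {Z} hZ hZc => ?_⟩
    let ι := { V : Set X // (IsOpen V ∧ IsCompact V) ∧ (Z ∩ V).Nonempty }
    obtain ⟨a, haW, ha⟩ := exists_mem_closed_of_fip (hZc.preimage hcont)
      (fun V : ι => π ⁻¹' V.1) (fun V => V.2.1.1.preimage hcont)
      (fun V => hc _ V.2.1.1 V.2.1.2) (fun s => by
        classical
        obtain ⟨z, hz, hzV⟩ := isIrreducible_iff_sInter.1 hZ (s.image fun V : ι => V.1)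
          (fun V hV => by
            obtain ⟨W, -, rfl⟩ := Finset.mem_image.1 hV
            exact W.2.1.1)
          (fun V hV => by
            obtain ⟨W, -, rfl⟩ := Finset.mem_image.1 hV
            exact W.2.2)
        obtain ⟨a, rfl⟩ := hsurj z
        exact ⟨a, hz, mem_iInter₂.2 fun V hV =>
          hzV _ (Finset.mem_coe.2 (Finset.mem_image_of_mem _ hV))⟩)
    refine ⟨π a, (closure_minimal (singleton_subset_iff.2 (show π a ∈ Z from haW)) hZc).antisymm fun z hz => ?_⟩
    rw [mem_closure_iff]
    intro O hO hzO
    obtain ⟨V, hV, hzV, hVO⟩ := hbasis.exists_subset_of_mem_open hzO hO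
    exact ⟨π a, hVO (mem_iInter.1 ha ⟨V, hV, z, hz, hzV⟩), rfl⟩
  have : T0Space X := by
    refine ⟨fun x y hxy => ?_⟩
    let W : Set U := π ⁻¹' closure {x}
    have hWc : IsClosed W := isClosed_closure.preimage hcont
    obtain ⟨a₀, ha₀⟩ := hsurj x
    obtain ⟨η, hη, hZW⟩ := exists_maximal_point hWc (a₀ := a₀) (by
      change π a₀ ∈ closure {x}
      rw [ha₀]; exact subset_closure rfl)
    have key : ∀ z, Inseparable x z → π η = z := by
      intro z hz
      let ι := { V : Set U // (IsOpen V ∧ IsCompact V) ∧ η ∈ V }
      obtain ⟨a, haz, ha⟩ := hfib z (fun V : ι => V.1) (fun V => V.2.1.1) (fun V => V.2.1.2)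
        fun s => by
          have hN : IsOpen (π '' ⋂ V ∈ s, V.1) :=
            hop _ (isOpen_biInter_finset fun V _ => V.2.1.1)
          have hηN : π η ∈ π '' ⋂ V ∈ s, V.1 :=
            ⟨η, mem_iInter₂.2 fun V _ => V.2.2, rfl⟩
          have hx : x ∈ π '' ⋂ V ∈ s, V.1 := by
            obtain ⟨w, hw, rfl⟩ := mem_closure_iff.1 hη _ hN hηN
            exact hw
          obtain ⟨a, ha, e⟩ := (hz.mem_open_iff hN).1 hx
          exact ⟨a, e, fun V hV => mem_iInter₂.1 ha V hV⟩
      have haη : a ⤳ η := by
        refine specializes_iff_forall_open.2 fun O hO hηO => ?_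
        obtain ⟨V, hV, hηV, hVO⟩ := (PrespectralSpace.isTopologicalBasis (X := U))
          |>.exists_subset_of_mem_open hηO hO
        exact hVO (ha ⟨V, hV, hηV⟩)
      have haW : π a ∈ closure {x} := by rw [haz]; exact hz.specializes.mem_closure
      rw [← haz, hZW a haW haη]
    rw [← key x (Inseparable.refl x), key y hxy]
  exact {}

end Groth.Agent.H14Top
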