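import Mathlib.Topology.NoetherianSpace
import Mathlib.Topology.Sober

/-!
# Images of noetherian sober spaces are quasi-sober
-/

set_option autoImplicit false

open Topology TopologicalSpace Set

universe u v

namespace Groth.Agent.H14Top

theorem quasiSober_of_surjective {U : Type u} {X : Type v} [TopologicalSpace U] [TopologicalSpace X]
    [NoetherianSpace U] [QuasiSober U] {π : U → X} (hcont : Continuous π)
    (hsurj : Function.Surjective π) : QuasiSober X := by
  classical
  refine ⟨fun {Z} hZ hZc => ?_⟩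
  obtain ⟨S, hSf, hSc, hSi, hS⟩ := NoetherianSpace.exists_finite_set_isClosed_irreducible
    (hZc.preimage hcont)
  choose η hη using fun C (hC : C ∈ S) => QuasiSober.sober (hSi C hC) (hSc C hC)
  let T : Set (Set X) := range fun C : S => closure {π (η C.1 C.2)}
  have := hSf.to_subtype
  have hT : T.Finite := finite_range _
  obtain ⟨_, hC, hsub⟩ := isIrreducible_iff_sUnion_isClosed.1 hZ hT.toFinset
    (fun t ht => by
      obtain ⟨C, rfl⟩ := hT.mem_toFinset.1 ht
      exact isClosed_closure)
    (fun z hz => by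
      obtain ⟨a, rfl⟩ := hsurj z
      have ha : a ∈ π ⁻¹' Z := hz
      rw [hS] at ha
      obtain ⟨C, hC, haC⟩ := ha
      exact ⟨closure {π (η C hC)}, by
          rw [hT.coe_toFinset]
          exact ⟨⟨C, hC⟩, rfl⟩,
        (((hη C hC).specializes haC).map hcont).mem_closure⟩)
  obtain ⟨C, rfl⟩ := hT.mem_toFinset.1 hC
  refine ⟨π (η C.1 C.2), (closure_minimal (singleton_subset_iff.2 ?_) hZc).antisymm hsub⟩
  have h : η C.1 C.2 ∈ π ⁻¹' Z := by
    rw [hS]
    exact ⟨C.1, C.2, (hη C.1 C.2).mem⟩
  exact h

end Groth.Agent.H14Top
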